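import Mathlib

universe u v w

namespace Helper5.EqLoc

/-- Abstract criterion: a domain `E` jointly embedded in integrally closed domains `D' i`, such that
componentwise divisibility implies divisibility, is integrally closed. -/
theorem isIntegrallyClosed_of_componentwise {E : Type u} [CommRing E] [IsDomain E]
    {J : Type v} (D' : J → Type w) [∀ i, CommRing (D' i)] [∀ i, IsDomain (D' i)]
    [∀ i, IsIntegrallyClosed (D' i)]
    (φ : ∀ i, E →+* D' i) (hφ : ∀ i, Function.Injective (φ i))
    (hdiv : ∀ a b : E, b ≠ 0 → (∀ i, ∃ y : D' i, φ i b * y = φ i a) → ∃ y : E, b * y = a) :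
    IsIntegrallyClosed E := by
  rw [isIntegrallyClosed_iff (FractionRing E)]
  intro x hx
  obtain ⟨a, b, hb, rfl⟩ := IsFractionRing.div_surjective (A := E) x
  have hb0 : b ≠ 0 := nonZeroDivisors.ne_zero hb
  have hb0'' : algebraMap E (FractionRing E) b ≠ 0 :=
    (map_ne_zero_iff _ (IsFractionRing.injective _ _)).2 hb0
  have hcomp : ∀ i, ∃ y : D' i, φ i b * y = φ i a := by
    intro i
    have hg : Function.Injective
        ((algebraMap (D' i) (FractionRing (D' i))).comp (φ i)) :=
      (IsFractionRing.injective (D' i) (FractionRing (D' i))).comp (hφ i)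
    let ψ : FractionRing E →+* FractionRing (D' i) := IsFractionRing.lift hg
    have hint : IsIntegral (D' i) (ψ (algebraMap E (FractionRing E) a /
        algebraMap E (FractionRing E) b)) := by
      refine IsIntegral.map_of_comp_eq (φ i) ψ ?_ hx
      ext z
      simp [ψ, IsFractionRing.lift_algebraMap]
    obtain ⟨y, hy⟩ := IsIntegrallyClosed.algebraMap_eq_of_integral hint
    refine ⟨y, ?_⟩
    apply IsFractionRing.injective (D' i) (FractionRing (D' i))
    have hψa : ψ (algebraMap E (FractionRing E) a) =
        algebraMap (D' i) (FractionRing (D' i)) (φ i a) := by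
      simp only [ψ, IsFractionRing.lift_algebraMap, RingHom.comp_apply]
    have hψb : ψ (algebraMap E (FractionRing E) b) =
        algebraMap (D' i) (FractionRing (D' i)) (φ i b) := by
      simp only [ψ, IsFractionRing.lift_algebraMap, RingHom.comp_apply]
    have hψb0 : ψ (algebraMap E (FractionRing E) b) ≠ 0 := by
      rw [map_ne_zero_iff _ ψ.injective]
      exact hb0''
    rw [map_mul, hy, map_div₀, hψa, ← hψb, mul_div_cancel₀ _ hψb0]
  obtain ⟨y, hy⟩ := hdiv a b hb0 hcomp
  refine ⟨y, ?_⟩
  rw [eq_div_iff hb0'', ← map_mul, mul_comm, hy]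

end Helper5.EqLoc
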