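import Mathlib
import Groth.Agent.Lib.Helper5.EqLoc.ICAbs

universe u

namespace Helper5.EqLoc

open Classical in
/-- indicator idempotent -/
noncomputable def ind {ι : Type u} (D : ι → Type u) [∀ i, CommRing (D i)] (I : Finset ι) :
    Π i, D i := fun i => if i ∈ I then 1 else 0

section

variable {ι : Type u} [Fintype ι] {D : ι → Type u} [∀ i, CommRing (D i)] [∀ i, IsDomain (D i)]

open Classical in
/-- support -/
noncomputable def supp (a : Π i, D i) : Finset ι := Finset.univ.filter (fun i => a i ≠ 0)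

omit [∀ i, IsDomain (D i)] in
lemma mem_supp (a : Π i, D i) (i : ι) : i ∈ supp a ↔ a i ≠ 0 := by
  classical
  simp [supp]

omit [Fintype ι] [∀ i, IsDomain (D i)] in
lemma ind_apply_of_mem {I : Finset ι} {i : ι} (h : i ∈ I) : ind D I i = 1 := by
  classical
  simp [ind, h]

omit [Fintype ι] [∀ i, IsDomain (D i)] in
lemma ind_apply_of_not_mem {I : Finset ι} {i : ι} (h : i ∉ I) : ind D I i = 0 := by
  classical
  simp [ind, h]

omit [∀ i, IsDomain (D i)] in
lemma ind_univ : ind D (Finset.univ : Finset ι) = 1 := by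
  funext i
  rw [ind_apply_of_mem (Finset.mem_univ i)]
  rfl

omit [Fintype ι] [∀ i, IsDomain (D i)] in
lemma ind_inter [DecidableEq ι] (I J : Finset ι) : ind D (I ∩ J) = ind D I * ind D J := by
  funext i
  by_cases hI : i ∈ I <;> by_cases hJ : i ∈ J
  · rw [ind_apply_of_mem (Finset.mem_inter.2 ⟨hI, hJ⟩), Pi.mul_apply, ind_apply_of_mem hI,
      ind_apply_of_mem hJ, one_mul]
  · rw [ind_apply_of_not_mem (fun h => hJ (Finset.mem_inter.1 h).2), Pi.mul_apply,
      ind_apply_of_not_mem hJ, mul_zero]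
  · rw [ind_apply_of_not_mem (fun h => hI (Finset.mem_inter.1 h).1), Pi.mul_apply,
      ind_apply_of_not_mem hI, zero_mul]
  · rw [ind_apply_of_not_mem (fun h => hI (Finset.mem_inter.1 h).1), Pi.mul_apply,
      ind_apply_of_not_mem hI, zero_mul]

omit [∀ i, IsDomain (D i)] in
lemma ind_compl [DecidableEq ι] (I : Finset ι) : ind D Iᶜ = 1 - ind D I := by
  funext i
  by_cases hI : i ∈ I
  · rw [ind_apply_of_not_mem (by simpa using hI), Pi.sub_apply, ind_apply_of_mem hI]
    simp
  · rw [ind_apply_of_mem (by simpa using hI), Pi.sub_apply, ind_apply_of_not_mem hI]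
    simp

omit [Fintype ι] in
lemma mem_nonZeroDivisors_of_forall_ne (s : Π i, D i) (hs : ∀ i, s i ≠ 0) :
    s ∈ nonZeroDivisors (Π i, D i) := by
  rw [mem_nonZeroDivisors_iff_right]
  intro x hx
  funext i
  have := congrFun hx i
  simp only [Pi.mul_apply, Pi.zero_apply, mul_eq_zero] at this
  rcases this with h | h
  · exact h
  · exact absurd h (hs i)

lemma ind_supp_mul (a : Π i, D i) : ind D (supp a) * a = a := by
  funext i
  by_cases h : a i = 0
  · simp [h]
  · rw [Pi.mul_apply, ind_apply_of_mem ((mem_supp a i).2 h), one_mul]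

variable {R : Type u} [CommRing R] (F : Set ((Π i, D i) →+* R))
  (hF : ∀ f ∈ F, ∀ s ∈ nonZeroDivisors (Π i, D i), f s ∈ nonZeroDivisors R)
  (A : Subring (Π i, D i)) (hA : ∀ a, a ∈ A ↔ ∀ f ∈ F, ∀ f' ∈ F, f a = f' a)

include hF hA in
lemma ind_supp_mem {a : Π i, D i} (ha : a ∈ A) : ind D (supp a) ∈ A := by
  classical
  rw [hA]
  set e := ind D (supp a) with he
  have hea : e * a = a := ind_supp_mul a
  have hee : e * (1 - e) = 0 := by
    funext i
    by_cases h : i ∈ supp a
    · simp [he, ind_apply_of_mem h]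
    · simp [he, ind_apply_of_not_mem h]
  have hs : ∀ i, (a + (1 - e)) i ≠ 0 := by
    intro i
    by_cases h : i ∈ supp a
    · have := (mem_supp a i).1 h
      simpa [he, ind_apply_of_mem h] using this
    · have h0 : a i = 0 := by
        by_contra h'
        exact h ((mem_supp a i).2 h')
      simp [he, ind_apply_of_not_mem h, h0]
  have hnzd := mem_nonZeroDivisors_of_forall_ne _ hs
  have key : ∀ f ∈ F, ∀ f' ∈ F, f e * (1 - f' e) = 0 := by
    intro f hf f' hf'
    have hr : f a = f' a := (hA a).1 ha f hf f' hf'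
    have h1 : f e * f a = f a := by rw [← map_mul, hea]
    have h2 : f' e * f' a = f' a := by rw [← map_mul, hea]
    have h3 : f e * (1 - f e) = 0 := by
      have := congrArg f hee
      simpa using this
    have hfs := hF f hf _ hnzd
    rw [← mul_right_mem_nonZeroDivisors_eq_zero_iff hfs]
    have : f (a + (1 - e)) = f a + (1 - f e) := by simp
    rw [this]
    have h4 : f' e * f a = f a := by rw [hr]; exact h2
    calc f e * (1 - f' e) * (f a + (1 - f e))
        = (1 - f' e) * (f e * f a) + (1 - f' e) * (f e * (1 - f e)) := by ring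
      _ = (1 - f' e) * f a + 0 := by rw [h1, h3, mul_zero]
      _ = f a - f' e * f a := by ring
      _ = 0 := by rw [h4, sub_self]
  intro f hf f' hf'
  have k1 := key f hf f' hf'
  have k2 := key f' hf' f hf
  have e1 : f e = f e * f' e := by linear_combination k1
  have e2 : f' e = f' e * f e := by linear_combination k2
  calc f e = f e * f' e := e1
    _ = f' e * f e := mul_comm _ _
    _ = f' e := e2.symm

section blocks

variable [DecidableEq ι]

open Classical in
/-- The block of `i`: the smallest `J ∋ i` with `ind J ∈ A`. -/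
noncomputable def blk (i : ι) : Finset ι :=
  (Finset.univ.filter (fun J : Finset ι => i ∈ J ∧ ind D J ∈ A)).inf id

omit [∀ i, IsDomain (D i)] in
lemma ind_inf_mem (s : Finset (Finset ι)) (hs : ∀ J ∈ s, ind D J ∈ A) : ind D (s.inf id) ∈ A := by
  induction s using Finset.induction with
  | empty =>
    rw [Finset.inf_empty, Finset.top_eq_univ, ind_univ]
    exact A.one_mem
  | insert J s hJ ih =>
    rw [Finset.inf_insert, id, Finset.inf_eq_inter, ind_inter]
    exact A.mul_mem (hs J (Finset.mem_insert_self _ _))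
      (ih (fun J' hJ' => hs J' (Finset.mem_insert_of_mem hJ')))

omit [∀ i, IsDomain (D i)] in
lemma ind_blk_mem (i : ι) : ind D (blk A i) ∈ A := by
  classical
  apply ind_inf_mem
  intro J hJ
  exact (Finset.mem_filter.1 hJ).2.2

omit [∀ i, IsDomain (D i)] in
lemma mem_blk_self (i : ι) : i ∈ blk A i := by
  classical
  rw [blk, Finset.mem_inf]
  intro J hJ
  exact (Finset.mem_filter.1 hJ).2.1

omit [∀ i, IsDomain (D i)] in
lemma blk_subset {i : ι} {J : Finset ι} (hi : i ∈ J) (hJ : ind D J ∈ A) : blk A i ⊆ J := by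
  classical
  have : (Finset.univ.filter (fun J : Finset ι => i ∈ J ∧ ind D J ∈ A)).inf id ≤ id J :=
    Finset.inf_le (Finset.mem_filter.2 ⟨Finset.mem_univ _, hi, hJ⟩)
  exact this

include hF hA in
lemma dichotomy (i : ι) {a : Π i, D i} (ha : a ∈ A) :
    (∀ j ∈ blk A i, a j = 0) ∨ (∀ j ∈ blk A i, a j ≠ 0) := by
  have hJ := ind_supp_mem F hF A hA ha
  by_cases h : a i = 0
  · left
    have hi : i ∈ (supp a)ᶜ := by
      rw [Finset.mem_compl, mem_supp]
      simpa using h
    have hJ' : ind D (supp a)ᶜ ∈ A := by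
      rw [ind_compl]
      exact A.sub_mem A.one_mem hJ
    intro j hj
    have := blk_subset A hi hJ' hj
    rw [Finset.mem_compl, mem_supp] at this
    simpa using this
  · right
    have hi : i ∈ supp a := (mem_supp a i).2 h
    intro j hj
    exact (mem_supp a j).1 (blk_subset A hi hJ hj)

omit [∀ i, IsDomain (D i)] in
lemma blk_eq_of_mem {i j : ι} (hj : j ∈ blk A i) : blk A j = blk A i := by
  apply Finset.Subset.antisymm
  · exact blk_subset A hj (ind_blk_mem A i)
  · have hi : i ∈ blk A j := by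
      by_contra hi
      have h1 : i ∈ blk A i ∩ (blk A j)ᶜ :=
        Finset.mem_inter.2 ⟨mem_blk_self A i, Finset.mem_compl.2 hi⟩
      have h2 : ind D (blk A i ∩ (blk A j)ᶜ) ∈ A := by
        rw [ind_inter, ind_compl]
        exact A.mul_mem (ind_blk_mem A i) (A.sub_mem A.one_mem (ind_blk_mem A j))
      have h3 := blk_subset A h1 h2 hj
      exact (Finset.mem_compl.1 (Finset.mem_inter.1 h3).2) (mem_blk_self A j)
    exact blk_subset A hi (ind_blk_mem A j)

end blocks

section pieces

variable [DecidableEq ι]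

/-- index set: the blocks -/
def Blocks : Type u := {C : Finset ι // ∃ i, blk A i = C}

noncomputable instance : Fintype (Blocks A) := by
  classical
  unfold Blocks
  infer_instance

/-- restriction to a block -/
def proj (C : Finset ι) : (Π i, D i) →+* (Π i : {i // i ∈ C}, D i.1) :=
  RingHom.pi (fun i => Pi.evalRingHom D i.1)

omit [Fintype ι] [∀ i, IsDomain (D i)] [DecidableEq ι] in
@[simp] lemma proj_apply (C : Finset ι) (a : Π i, D i) (i : {i // i ∈ C}) :
    proj C a i = a i.1 := rfl

/-- the factor ring attached to a block -/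
def piece (C : Finset ι) : Subring (Π i : {i // i ∈ C}, D i.1) := A.map (proj C)

/-- evaluation of a piece at a point of the block -/
def pieceEval (C : Finset ι) (i₀ : {i // i ∈ C}) : piece A C →+* D i₀.1 :=
  (Pi.evalRingHom (fun i : {i // i ∈ C} => D i.1) i₀).comp (piece A C).subtype

include hF hA in
lemma pieceEval_injective (C : Blocks A) (i₀ : {i // i ∈ C.1}) :
    Function.Injective (pieceEval A C.1 i₀) := by
  rw [injective_iff_map_eq_zero]
  rintro ⟨y, a, ha, rfl⟩ hy
  obtain ⟨i, hi⟩ := C.2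
  have h0 : a i₀.1 = 0 := hy
  have hmem : i₀.1 ∈ blk A i := by rw [hi]; exact i₀.2
  apply Subtype.ext
  funext j
  have hj : j.1 ∈ blk A i := by rw [hi]; exact j.2
  rcases dichotomy F hF A hA i ha with h | h
  · exact h j.1 hj
  · exact absurd h0 (h i₀.1 hmem)

include hF hA in
lemma piece_isDomain (C : Blocks A) : IsDomain (piece A C.1) := by
  obtain ⟨i, hi⟩ := C.2
  have hi₀ : i ∈ C.1 := by rw [← hi]; exact mem_blk_self A i
  exact Function.Injective.isDomain (pieceEval A C.1 ⟨i, hi₀⟩)
    (pieceEval_injective F hF A hA C ⟨i, hi₀⟩)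

/-- the comparison map -/
def toPieces : A →+* Π C : Blocks A, piece A C.1 :=
  RingHom.pi (fun C => ((proj C.1).comp A.subtype).codRestrict (piece A C.1)
    (fun a => ⟨a.1, a.2, rfl⟩))

omit [∀ i, IsDomain (D i)] in
lemma toPieces_injective : Function.Injective (toPieces A) := by
  rw [injective_iff_map_eq_zero]
  intro a ha
  apply Subtype.ext
  funext i
  have h1 := congrFun ha ⟨blk A i, i, rfl⟩
  have h2 := congrArg Subtype.val h1
  have h3 := congrFun h2 ⟨i, mem_blk_self A i⟩
  exact h3

omit [∀ i, IsDomain (D i)] in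
lemma ind_mul_proj_of_ne {C C' : Blocks A} (h : C ≠ C') (a : Π i, D i) :
    proj C'.1 (ind D C.1 * a) = 0 := by
  funext j
  rw [proj_apply, Pi.mul_apply]
  have : j.1 ∉ C.1 := by
    intro hj
    apply h
    obtain ⟨i, hi⟩ := C.2
    obtain ⟨i', hi'⟩ := C'.2
    apply Subtype.ext
    rw [← hi, ← hi']
    have h1 : j.1 ∈ blk A i := by rw [hi]; exact hj
    have h2 : j.1 ∈ blk A i' := by rw [hi']; exact j.2
    rw [← blk_eq_of_mem A h1, ← blk_eq_of_mem A h2]
  rw [ind_apply_of_not_mem this, zero_mul]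
  rfl

omit [∀ i, IsDomain (D i)] in
lemma toPieces_surjective : Function.Surjective (toPieces A) := by
  classical
  intro y
  have hch : ∀ C : Blocks A, ∃ a ∈ A, proj C.1 a = (y C).1 := fun C => by
    obtain ⟨a, ha, h⟩ := (y C).2
    exact ⟨a, ha, h⟩
  choose a ha hay using hch
  have hmem : ∀ C : Blocks A, ind D C.1 ∈ A := fun C => by
    obtain ⟨i, hi⟩ := C.2
    rw [← hi]
    exact ind_blk_mem A i
  refine ⟨⟨∑ C : Blocks A, ind D C.1 * a C,
    A.sum_mem (fun C _ => A.mul_mem (hmem C) (ha C))⟩, ?_⟩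
  funext C'
  apply Subtype.ext
  change proj C'.1 (∑ C : Blocks A, ind D C.1 * a C) = (y C').1
  rw [map_sum, Finset.sum_eq_single C']
  · rw [← hay C']
    funext j
    rw [proj_apply, proj_apply, Pi.mul_apply, ind_apply_of_mem j.2, one_mul]
  · intro C _ hne
    exact ind_mul_proj_of_ne A hne (a C)
  · intro h
    exact absurd (Finset.mem_univ _) h

end pieces

section closed

variable [DecidableEq ι]

include hF hA in
lemma quotient_mem (C : Blocks A) {a b : Π i, D i} (ha : a ∈ A) (hb : b ∈ A)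
    (hb0 : ∃ j ∈ C.1, b j ≠ 0) (y : Π i : {i // i ∈ C.1}, D i.1)
    (hy : ∀ i : {i // i ∈ C.1}, b i.1 * y i = a i.1) : y ∈ piece A C.1 := by
  classical
  obtain ⟨i₀, hi₀⟩ := C.2
  have hbC : ∀ j ∈ C.1, b j ≠ 0 := by
    obtain ⟨j, hj, hbj⟩ := hb0
    rcases dichotomy F hF A hA i₀ hb with h | h
    · exact absurd (h j (by rw [hi₀]; exact hj)) hbj
    · intro j' hj'
      exact h j' (by rw [hi₀]; exact hj')
  have he : ind D C.1 ∈ A := by rw [← hi₀]; exact ind_blk_mem A i₀
  let yt : Π i, D i := fun i => if h : i ∈ C.1 then y ⟨i, h⟩ else 0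
  have hyt : proj C.1 yt = y := by
    funext j
    simp [yt, j.2]
  refine ⟨yt, ?_, hyt⟩
  set e := ind D C.1 with he_def
  set s := e * b + (1 - e) with hs_def
  have hsA : s ∈ A := A.add_mem (A.mul_mem he hb) (A.sub_mem A.one_mem he)
  have hs_nzd : s ∈ nonZeroDivisors (Π i, D i) := by
    apply mem_nonZeroDivisors_of_forall_ne
    intro i
    by_cases h : i ∈ C.1
    · simpa [hs_def, he_def, ind_apply_of_mem h] using hbC i h
    · simp [hs_def, he_def, ind_apply_of_not_mem h]
  have hsy : s * yt = e * a := by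
    funext i
    by_cases h : i ∈ C.1
    · have := hy ⟨i, h⟩
      simp [hs_def, he_def, ind_apply_of_mem h, yt, h, this]
    · simp [hs_def, he_def, ind_apply_of_not_mem h, yt, h]
  have heaA : e * a ∈ A := A.mul_mem he ha
  change yt ∈ A
  rw [hA]
  intro f hf f' hf'
  have h1 : f s * f yt = f (e * a) := by rw [← map_mul, hsy]
  have h2 : f' s * f' yt = f' (e * a) := by rw [← map_mul, hsy]
  have h3 : f s = f' s := (hA s).1 hsA f hf f' hf'
  have h4 : f (e * a) = f' (e * a) := (hA _).1 heaA f hf f' hf'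
  have hfs := hF f hf s hs_nzd
  have : (f yt - f' yt) * f s = 0 := by
    rw [sub_mul, mul_comm (f yt), mul_comm (f' yt), h1]
    rw [h3, h2, h4, sub_self]
  rw [mul_right_mem_nonZeroDivisors_eq_zero_iff hfs] at this
  exact sub_eq_zero.1 this

include hF hA in
lemma piece_isIntegrallyClosed [∀ i, IsIntegrallyClosed (D i)] (C : Blocks A) :
    IsIntegrallyClosed (piece A C.1) := by
  have : IsDomain ↥(piece A C.1) := piece_isDomain F hF A hA C
  refine isIntegrallyClosed_of_componentwise (J := {i // i ∈ C.1}) (fun i => D i.1)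
    (fun i => pieceEval A C.1 i) (fun i => pieceEval_injective F hF A hA C i) ?_
  intro a b hb0 hcomp
  obtain ⟨at', hat', hat⟩ := a.2
  obtain ⟨bt, hbt', hbt⟩ := b.2
  choose y hy using hcomp
  have hy' : ∀ i : {i // i ∈ C.1}, bt i.1 * y i = at' i.1 := by
    intro i
    have := hy i
    change b.1 i * y i = a.1 i at this
    rw [← hbt, ← hat] at this
    exact this
  have hb0' : ∃ j ∈ C.1, bt j ≠ 0 := by
    by_contra hcon
    push Not at hcon
    apply hb0
    apply Subtype.ext
    funext j
    change b.1 j = 0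
    rw [← hbt]
    exact hcon j.1 j.2
  have hymem : y ∈ piece A C.1 := quotient_mem F hF A hA C hat' hbt' hb0' y hy'
  refine ⟨⟨y, hymem⟩, ?_⟩
  apply Subtype.ext
  funext j
  change b.1 j * y j = a.1 j
  rw [← hbt, ← hat]
  exact hy' j

end closed

end

theorem main {ι : Type u} [Fintype ι] (D : ι → Type u)
    [∀ i, CommRing (D i)] [∀ i, IsDomain (D i)] [∀ i, IsIntegrallyClosed (D i)]
    (R : Type u) [CommRing R] (F : Set ((Π i, D i) →+* R))
    (hF : ∀ f ∈ F, ∀ s ∈ nonZeroDivisors (Π i, D i), f s ∈ nonZeroDivisors R)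
    (A : Subring (Π i, D i)) (hA : ∀ a, a ∈ A ↔ ∀ f ∈ F, ∀ f' ∈ F, f a = f' a) :
    ∃ (κ : Type u) (_ : Fintype κ) (E : κ → Type u) (_ : ∀ j, CommRing (E j))
      (_ : ∀ j, IsDomain (E j)) (_ : ∀ j, IsIntegrallyClosed (E j)),
      Nonempty (A ≃+* Π j, E j) := by
  classical
  exact ⟨Blocks A, inferInstance, fun C => piece A C.1, fun C => inferInstance,
    fun C => piece_isDomain F hF A hA C, fun C => piece_isIntegrallyClosed F hF A hA C,
    ⟨RingEquiv.ofBijective (toPieces A) ⟨toPieces_injective A, toPieces_surjective A⟩⟩⟩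

end Helper5.EqLoc
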